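import Cfsg.Agent.Deg3p.A
import Cfsg.Agent.S5892
import Cfsg.Agent.S2475
import Cfsg.Agent.S2476
import Cfsg.Agent.S2366
import Cfsg.Agent.S0280
import Cfsg.Agent.S0222
import Cfsg.Agent.PLocal.ZpC

/-! Exclusion of the known simple groups. -/

set_option autoImplicit false
set_option linter.unusedSectionVars false

namespace CF.Deg3p
open Subgroup Cfsg Matrix
open scoped MatrixGroups

variable {G : Type*} [Group G] {p : ℕ}

theorem D.not_dvd (h : D G p) {k : ℕ} (hk : (p : ℤ) ∣ k - 2) : ¬ p ∣ k := fun d => by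
  have : (p : ℤ) ∣ (2 : ℕ) := by
    have := dvd_sub (Int.natCast_dvd_natCast.2 d) hk
    simpa using this
  have := Nat.le_of_dvd two_pos (Int.natCast_dvd_natCast.1 this)
  have := h.p3
  omega

theorem D.three (h : D G p) {q d u t s : ℕ} (hd : d = 1 ∨ d = 3)
    (hc : d * Nat.card G = q ^ 3 * u * (t * s)) (ht : t ∣ u) (h2 : 2 ∣ u) (d1 : d ∣ u) (d2 : d ∣ s)
    (x y : G) (hx : orderOf x = u / d) (hy : orderOf y = s / d)
    (hs : (s : ℤ) ∣ q ^ 3 * u * t - 3) : False := by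
  obtain ⟨k, hk, hk2⟩ := h.card
  have hp := h.pp
  have p3 := h.p3
  have d0 : 0 < d := by omega
  have nd : ¬ p ∣ d := fun e => by have := Nat.le_of_dvd d0 e; omega
  have hu : ¬ p ∣ u := fun e => by
    obtain ⟨c, rfl⟩ := d1
    rw [Nat.mul_div_cancel_left _ d0] at hx
    have := h.ord x (hx ▸ (hp.dvd_mul.1 e).resolve_left nd)
    rw [hx] at this
    subst this
    rcases (Nat.prime_two.dvd_mul.1 h2) with e | e
    · omega
    · have := (Nat.prime_dvd_prime_iff_eq Nat.prime_two hp).1 e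
      omega
  have : p ∣ q ^ 3 * u * (t * s) := by rw [← hc, hk]; exact ⟨d * k, by ring⟩
  rcases hp.dvd_mul.1 this with e | e
  · obtain ⟨c, rfl⟩ := hp.dvd_of_dvd_pow ((hp.dvd_mul.1 e).resolve_right hu)
    have : p ∣ d * k := ⟨p * c ^ 3 * u * (t * s), Nat.eq_of_mul_eq_mul_right hp.pos (by
      rw [mul_assoc, ← hk, hc]; ring)⟩
    exact h.not_dvd hk2 ((hp.dvd_mul.1 this).resolve_left nd)
  · have e := (hp.dvd_mul.1 e).resolve_left fun e => hu (e.trans ht)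
    obtain ⟨c, rfl⟩ := d2
    rw [Nat.mul_div_cancel_left _ d0] at hy
    have := h.ord y (hy ▸ (hp.dvd_mul.1 e).resolve_left nd)
    rw [hy] at this
    subst this
    have e1 : k = q ^ 3 * u * t := Nat.eq_of_mul_eq_mul_right (Nat.mul_pos d0 hp.pos) (by
      rw [mul_left_comm, ← hk, hc]; ring)
    have e2 : (c : ℤ) ∣ k - 3 := by
      rw [e1]; push_cast at hs ⊢; exact (dvd_mul_left _ _).trans hs
    have e3 : (c : ℤ) ∣ (1 : ℕ) := by
      have := dvd_sub hk2 e2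
      rwa [show (k - 2 - (k - 3) : ℤ) = (1 : ℕ) by push_cast; ring] at this
    exact hp.one_lt.ne' (Nat.dvd_one.1 (Int.natCast_dvd_natCast.1 e3))

theorem gcd3 (n : ℕ) : Nat.gcd 3 n = 1 ∨ Nat.gcd 3 n = 3 :=
  (Nat.dvd_prime Nat.prime_three).1 (Nat.gcd_dvd_left _ _)

variable {F : Type*} [Field F] [Fintype F]

theorem D.psl3 (h : D PSL(3, F) p) (ho : Fintype.card F % 2 = 1) : False := by
  obtain ⟨r, _, n, hr, -⟩ := FiniteField.card' F
  have := Fact.mk hr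
  have S := Cfsg.Agent.S2476.result (F := F) r
  have hc := CF.Classical.card_SL_eq_gcd_mul_card_PSL (ι := Fin 3) F
  rw [CF.Zp.card_SL_three, Nat.card_eq_fintype_card (α := F), Fintype.card_fin] at hc
  obtain ⟨x, hx⟩ := S.ge (Or.inr (Or.inl dvd_rfl))
  obtain ⟨y, hy⟩ := S.ge (Or.inl dvd_rfl)
  obtain ⟨m, hm⟩ : ∃ m, Fintype.card F = 2 * m + 1 := ⟨Fintype.card F / 2, by omega⟩
  rw [hm] at hc hx hy
  have e1 : (2 * m + 1) ^ 2 - 1 = 2 * m * (2 * m + 2) := Nat.sub_eq_of_eq_add (by ring)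
  have e2 : (2 * m + 1) ^ 3 - 1 = 2 * m * ((2 * m + 1) ^ 2 + (2 * m + 1) + 1) :=
    Nat.sub_eq_of_eq_add (by ring)
  rw [e2] at hc
  rw [e1, Nat.add_sub_cancel] at hc hx
  rw [Nat.add_sub_cancel] at hy
  refine h.three (gcd3 _) hc (dvd_mul_right _ _) ⟨m * (2 * m + 2), by ring⟩
    ((Nat.gcd_dvd_right _ _).mul_right _) ?_ x y hx hy ?_
  · rcases gcd3 (2 * m) with e | e
    · rw [e]; exact one_dvd _
    · obtain ⟨c, hc⟩ : 3 ∣ 2 * m := e ▸ Nat.gcd_dvd_right _ _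
      rw [e, hc]
      exact ⟨3 * c ^ 2 + 3 * c + 1, by ring⟩
  · push_cast
    set q : ℤ := 2 * m + 1 with hq
    rw [show (2 * m : ℤ) = q - 1 by omega, show (q - 1 + 2 : ℤ) = q + 1 by ring]
    exact ⟨q ^ 4 - 2 * q ^ 3 + 3 * q - 3, by ring⟩

theorem card_psu3 {q : ℕ} (hF : Fintype.card F = q ^ 2) :
    Nat.gcd 3 (q + 1) * Nat.card (PSU 3 F q) = q ^ 3 * (q ^ 2 - 1) * (q ^ 3 + 1) := by
  have := Cfsg.Agent.S0280.result hF 3 (by omega)
  refine Nat.eq_of_mul_eq_mul_left q.succ_pos ?_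
  rw [mul_left_comm, this]
  simp [Finset.prod_range_succ]
  ring

theorem D.psu3 {q : ℕ} (hF : Fintype.card F = q ^ 2) (h : D (PSU 3 F q) p) (ho : q % 2 = 1) :
    False := by
  obtain ⟨r, _, n, hr, hn⟩ := FiniteField.card' F
  have := Fact.mk hr
  have r2 : r ≠ 2 := by
    rintro rfl
    have : 2 ∣ q ^ 2 := by rw [← hF, hn]; exact dvd_pow_self 2 n.ne_zero
    have := Nat.prime_two.dvd_of_dvd_pow this
    omega
  have S := Cfsg.Agent.S2366.result (F := F) r r2 q hF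
  have hc := card_psu3 hF
  obtain ⟨x, hx⟩ := S.ge (Or.inl (Or.inr dvd_rfl))
  obtain ⟨y, hy⟩ := S.ge (Or.inr dvd_rfl)
  obtain ⟨m, hm⟩ : ∃ m, q = 2 * m + 1 := ⟨q / 2, by omega⟩
  have e1 : q ^ 2 - 1 = 2 * m * (q + 1) := Nat.sub_eq_of_eq_add (by rw [hm]; ring)
  have e3 : q ^ 2 - q = q * (2 * m) := Nat.sub_eq_of_eq_add (by rw [hm]; ring)
  have e2 : q ^ 3 + 1 = (q + 1) * (q * (2 * m) + 1) := by rw [hm]; ring
  rw [e2] at hc
  rw [e1] at hc hx
  rw [e3] at hy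
  refine h.three (gcd3 _) hc (dvd_mul_left _ _) ⟨m * (q + 1), by ring⟩
    ((Nat.gcd_dvd_right _ _).mul_left _) ?_ x y hx hy ?_
  · rcases gcd3 (q + 1) with e | e
    · rw [e]; exact one_dvd _
    · obtain ⟨c, hc⟩ : 3 ∣ q + 1 := e ▸ Nat.gcd_dvd_right _ _
      rw [e]
      obtain ⟨j, rfl⟩ : ∃ j, m = 3 * j + 2 := ⟨m / 3, by omega⟩
      exact ⟨12 * j ^ 2 + 18 * j + 7, by rw [hm]; ring⟩
  · push_cast
    rw [show (2 * m : ℤ) = q - 1 by omega]
    exact ⟨q ^ 4 + 2 * q ^ 3 - 3 * q - 3, by ring⟩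

theorem D.num (h : D G p) (hn : Nat.card G = 7920 ∨ Nat.card G = 2520) : False := by
  obtain ⟨k, hk, hk2⟩ := h.card
  have hp := h.pp
  have p3 := h.p3
  have : p ∣ 2 ^ 4 * 3 ^ 2 * 5 * 7 * 11 := by
    refine (Dvd.intro_left k hk.symm).trans ?_
    rcases hn with e | e <;> rw [e] <;> decide
  have : p = 5 ∨ p = 7 ∨ p = 11 := by
    simp only [hp.dvd_mul] at this
    rcases this with (((e | e) | e) | e) | e
    · have := Nat.le_of_dvd two_pos (hp.dvd_of_dvd_pow e); omega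
    · have := Nat.le_of_dvd three_pos (hp.dvd_of_dvd_pow e); omega
    all_goals
      have := (Nat.prime_dvd_prime_iff_eq hp (by decide)).1 e; omega
  rcases this with rfl | rfl | rfl <;> rcases hn with e | e <;> omega

theorem D.l2_cases (h : D PSL(2, F) p) (ho : Odd (Fintype.card F)) (h3 : 3 < Fintype.card F)
    {c : ℕ} (hc : Nat.card PSL(2, F) = 3 * p * c) :
    (Fintype.card F = 5 ∧ c = 4) ∨
      (Fintype.card F = 2 * p + 1 ∧ 3 * c = Fintype.card F * (Fintype.card F + 1)) ∨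
      (Fintype.card F + 1 = 2 * p ∧ 3 * c + Fintype.card F = Fintype.card F ^ 2) := by
  obtain ⟨r, _, n, hr, hn⟩ := FiniteField.card' F
  have := Fact.mk hr
  have S := Cfsg.Agent.S2475.result (F := F) r h3
  have hG := CF.Classical.card_PSL_two (F := F)
  obtain ⟨x, hx⟩ := S.ge (Or.inr (Or.inl dvd_rfl))
  obtain ⟨y, hy⟩ := S.ge (Or.inr (Or.inr dvd_rfl))
  obtain ⟨m, hm⟩ := ho
  have g : Nat.gcd 2 (2 * m + 1 - 1) = 2 := by simp
  rw [hm] at hn h3 ⊢
  rw [hm, g] at hG hx hy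
  have e1 : (2 * m + 1) ^ 2 - 1 = 2 * (2 * (m * (m + 1))) := Nat.sub_eq_of_eq_add (by ring)
  rw [e1, mul_left_comm] at hG
  replace hG := Nat.eq_of_mul_eq_mul_left two_pos hG
  obtain ⟨k, hk, hk2⟩ := h.card
  have hp := h.pp
  have p3 := h.p3
  have : p ∣ (2 * m + 1) * (2 * (m * (m + 1))) := by rw [← hG, hk]; exact dvd_mul_left _ _
  simp only [hp.dvd_mul] at this
  rcases this with e | e | e | e
  · have pr : p = r := (Nat.prime_dvd_prime_iff_eq hp hr).1 (hp.dvd_of_dvd_pow (hn ▸ e))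
    subst pr
    obtain ⟨a, ha⟩ := e
    have ek : k = a * (2 * (m * (m + 1))) := Nat.eq_of_mul_eq_mul_right hp.pos (by
      rw [← hk, hG, ha]; ring)
    have a1 : a = 1 := by
      obtain ⟨j, -, rfl⟩ := (Nat.dvd_prime_pow hp).1 (hn ▸ Dvd.intro_left p ha.symm)
      rcases j with _ | j
      · rfl
      · exact (h.not_dvd hk2 (ek ▸ (dvd_pow_self p j.succ_ne_zero).mul_right _)).elim
    rw [a1, mul_one] at ha
    have e5 : (p : ℤ) ∣ (5 : ℕ) := by
      have := dvd_sub (dvd_mul_right (p : ℤ) p) (hk2.mul_left 2)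
      rwa [show (p * p - 2 * (k - 2) : ℤ) = (5 : ℕ) by
        rw [ek, a1, ← ha]; push_cast; ring] at this
    have e6 := (Nat.prime_dvd_prime_iff_eq hp (by decide)).1 (Int.natCast_dvd_natCast.1 e5)
    obtain rfl : m = 2 := by omega
    rw [hc, e6] at hG
    omega
  · have := Nat.le_of_dvd two_pos e
    omega
  · have : orderOf x = m := by rw [hx]; omega
    have e2 := h.ord x (this ▸ e)
    rw [this] at e2
    subst e2
    exact Or.inr (Or.inl ⟨rfl, Nat.eq_of_mul_eq_mul_right hp.pos (by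
      rw [mul_right_comm, ← hc, hG]; ring)⟩)
  · have : orderOf y = m + 1 := by rw [hy]; omega
    have e2 := h.ord y (this ▸ e)
    rw [this] at e2
    subst e2
    refine Or.inr (Or.inr ⟨by ring, ?_⟩)
    have : 3 * c = (2 * m + 1) * (2 * m) := Nat.eq_of_mul_eq_mul_right hp.pos (by
      rw [mul_right_comm, ← hc, hG]; ring)
    rw [this]; ring

theorem D.l2 (h : D PSL(2, F) p) (ho : Odd (Fintype.card F)) (h3 : 3 < Fintype.card F)
    (H : Subgroup PSL(2, F)) (hH : IsCoatom H) (hi : H.index = 3 * p) :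
    Fintype.card F = 9 ∧ p = 5 := by
  obtain ⟨r, _, n, hr, hn⟩ := FiniteField.card' F
  have := Fact.mk hr
  have C := h.l2_cases ho h3 (c := Nat.card H) (by rw [← hi, H.index_mul_card])
  have p3 := h.p3
  have p4 : p ≠ 4 := by rintro rfl; exact absurd h.pp (by decide)
  obtain ⟨m, hm⟩ := id ho
  suffices Fintype.card F = 9 by omega
  have dih : ∀ k, Nonempty (H ≃* DihedralGroup k) → Nat.card H = 2 * k := fun k ⟨e⟩ => by
    rw [Nat.card_congr e.toEquiv, DihedralGroup.nat_card]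
  have alt : ∀ k, 2 ≤ k → Nonempty (H ≃* alternatingGroup (Fin k)) →
      Nat.card H = k.factorial / 2 := fun k hk ⟨e⟩ => by
    have := Fin.nontrivial_iff_two_le.2 hk
    rw [Nat.card_congr e.toEquiv, nat_card_alternatingGroup, Nat.card_fin]
  rcases Cfsg.Agent.S5892.result r ho (by omega) H hH with e | ⟨e, k, hk, f⟩ | ⟨-, -, k, hk, f⟩ |
    ⟨K, _, _, e, ⟨f⟩⟩ | ⟨K, _, _, s, hs, os, e, ⟨f⟩⟩ | ⟨-, -, f⟩ | ⟨-, -, -, f⟩ | ⟨-, -, ⟨f⟩⟩
  · rw [hm] at C e
    rw [Nat.add_sub_cancel] at e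
    rcases C with ⟨a, b⟩ | ⟨a, b⟩ | ⟨a, b⟩ <;> nlinarith
  · rw [dih k f, hk, hm, Nat.add_sub_cancel] at C
    rcases C with ⟨a, b⟩ | ⟨a, b⟩ | ⟨a, b⟩
    · omega
    all_goals nlinarith
  · rw [dih k f, hk] at C
    rcases C with ⟨a, b⟩ | ⟨a, b⟩ | ⟨a, b⟩
    · omega
    all_goals nlinarith
  · rw [Nat.card_congr f.toEquiv, CF.Classical.card_PGL_two, Nat.card_eq_fintype_card, e] at C
    rw [e] at h3 ⊢
    obtain ⟨j, hj⟩ : ∃ j, Fintype.card K = j + 1 := ⟨_, (Nat.succ_pred_eq_of_pos Fintype.card_pos).symm⟩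
    rw [hj] at C h3 ⊢
    rw [show (j + 1) ^ 2 - 1 = j * (j + 2) from Nat.sub_eq_of_eq_add (by ring)] at C
    have j1 : 1 ≤ j := by nlinarith
    rcases C with ⟨a, b⟩ | ⟨a, b⟩ | ⟨a, b⟩
    · have : j ≤ 1 := by nlinarith
      obtain rfl : j = 1 := by omega
      omega
    · have : 3 ≤ j := by nlinarith
      have : 3 * (j * (j + 2)) = (j + 1) * ((j + 1) ^ 2 + 1) :=
        Nat.eq_of_mul_eq_mul_left (show 0 < j + 1 by omega) (by rw [mul_left_comm, b]; ring)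
      nlinarith
    · have : (j + 1) * (j * (j + 2)) * 3 = (j + 1) * (j * (j + 2)) * (j + 1) := by nlinarith
      have := Nat.eq_of_mul_eq_mul_left (by positivity) this
      rw [← this]; rfl
  · have c := CF.Classical.card_PSL_two (F := K)
    rw [← Nat.card_congr f.toEquiv] at c
    have k2 : 2 ≤ Fintype.card K := Fintype.one_lt_card
    have s3 : 3 ≤ s := by
      have := hs.two_le
      obtain ⟨_, _⟩ := os
      omega
    have l1 : Fintype.card K ^ 3 ≤ Fintype.card F := e ▸ Nat.pow_le_pow_right (by omega) s3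
    have l2 : Nat.card H ≤ Fintype.card K ^ 3 := by
      refine (Nat.le_mul_of_pos_left _ (Nat.gcd_pos_of_pos_left _ two_pos)).trans (c.le.trans ?_)
      rw [pow_succ' _ 2]
      exact Nat.mul_le_mul_left _ (Nat.sub_le _ _)
    have l3 : 2 ^ 3 ≤ Fintype.card K ^ 3 := Nat.pow_le_pow_left k2 3
    rcases C with ⟨a, b⟩ | ⟨a, b⟩ | ⟨a, b⟩
    · omega
    all_goals nlinarith
  · rw [alt 5 (by omega) f, show Nat.factorial 5 / 2 = 60 by decide] at C
    have : m ≤ 7 := by rcases C with ⟨a, b⟩ | ⟨a, b⟩ | ⟨a, b⟩ <;> nlinarith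
    rw [hm] at C ⊢
    interval_cases m <;> omega
  · rw [alt 4 (by omega) f, show Nat.factorial 4 / 2 = 12 by decide] at C
    have : m ≤ 7 := by rcases C with ⟨a, b⟩ | ⟨a, b⟩ | ⟨a, b⟩ <;> nlinarith
    rw [hm] at C ⊢
    interval_cases m <;> omega
  · rw [Nat.card_congr f.toEquiv, Nat.card_perm, Nat.card_fin,
      show Nat.factorial 4 = 24 by decide] at C
    have : m ≤ 7 := by rcases C with ⟨a, b⟩ | ⟨a, b⟩ | ⟨a, b⟩ <;> nlinarith
    rw [hm] at C ⊢
    interval_cases m <;> omega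

theorem uniq {Q m n : ℕ} (hm : m < Q) (h0 : 0 < m) (h1 : 1 < n) (hn : n ≡ 1 [MOD Q])
    (hd : n ∣ Q * m * (Q + 1)) : n = Q + 1 := by
  obtain ⟨k, hk⟩ := (Nat.modEq_iff_dvd' h1.le).1 hn.symm
  obtain rfl : n = Q * k + 1 := by omega
  have k0 : 1 ≤ k := Nat.pos_of_ne_zero (by rintro rfl; omega)
  rw [mul_assoc] at hd
  obtain ⟨c, hc⟩ := (show (Q * k + 1).Coprime Q by simp).dvd_of_dvd_mul_left hd
  have e : c % Q = m := by
    have := congrArg (· % Q) hc
    simp only [mul_add, add_mul, mul_one, one_mul, mul_assoc, Nat.mul_add_mod, mul_comm m Q,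
      Nat.mod_eq_of_lt hm] at this
    exact this.symm
  have : m ≤ c := e ▸ Nat.mod_le _ _
  have : k ≤ 1 := by
    by_contra l
    have : Q * 2 ≤ Q * k := Nat.mul_le_mul_left _ (by omega)
    nlinarith
  rw [le_antisymm this k0, mul_one]

theorem D.bender [Finite G] [IsSimpleGroup G] (hG : ¬ IsMulCommutative G) (h : D G p)
    (h3 : 3 ∣ Nat.card G) {M : Subgroup G} (hM : IsStronglyEmbedded M) (S : Sylow 2 G) :
    ∃ N, N ≠ 3 * p ∧ ∀ n, 1 < n → n ≡ 1 [MOD Nat.card S] → n ∣ Nat.card G → n = N := by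
  have hp := h.pp
  have p3 := h.p3
  rcases Cfsg.Agent.S0222.result (by
      by_contra c
      push Not at c
      exact hG ⟨⟨c⟩⟩) M hM with ⟨K, _, _, _, h4, ⟨e⟩⟩ | ⟨-, m, -, e⟩ | ⟨K, _, _, q, hq, ev, h4, ⟨e⟩⟩
  · obtain ⟨a, -, ha⟩ := FiniteField.card K 2
    have c := CF.Classical.card_PSL_two (F := K)
    rw [← Nat.card_congr e.toEquiv] at c
    obtain ⟨j, hj⟩ : ∃ j, Fintype.card K = j + 1 := ⟨Fintype.card K - 1, by omega⟩
    have ev : 2 ∣ j + 1 := by rw [← hj, ha]; exact dvd_pow_self 2 a.ne_zero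
    rw [hj, Nat.add_sub_cancel, show Nat.gcd 2 j = 1 from (Nat.coprime_two_left.2 (by
      rw [← Nat.not_even_iff_odd, even_iff_two_dvd]; omega)), one_mul,
      show (j + 1) ^ 2 - 1 = j * (j + 1 + 1) from Nat.sub_eq_of_eq_add (by ring), ← mul_assoc] at c
    have d : j + 1 ∣ Nat.card S := by
      rw [← hj, ha]
      exact S.pow_dvd_card_of_pow_dvd_card (by rw [← ha, hj, c, mul_assoc]; exact dvd_mul_right _ _)
    refine ⟨j + 1 + 1, fun e => ?_, fun n h1 h2 h3 =>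
      uniq j.lt_succ_self (by omega) h1 (h2.of_dvd d) (c ▸ h3)⟩
    obtain ⟨k, hk, hk2⟩ := h.card
    have ek : k = (j + 1) * j * 3 := Nat.eq_of_mul_eq_mul_right hp.pos (by
      rw [← hk, c, e]; ring)
    have e4 : (p : ℤ) ∣ (2 ^ 2 : ℕ) := by
      have := dvd_sub hk2 (dvd_mul_right (p : ℤ) (27 * p - 27))
      rwa [show (k - 2 - p * (27 * p - 27) : ℤ) = (2 ^ 2 : ℕ) by
        rw [ek]; push_cast; rw [show (j : ℤ) = 3 * p - 2 by omega]; ring] at this
    have := Nat.le_of_dvd two_pos (hp.dvd_of_dvd_pow (Int.natCast_dvd_natCast.1 e4))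
    omega
  · exfalso
    have : 2 ^ (2 * m + 1) % 3 = 2 := by
      rw [pow_succ, pow_mul, Nat.mul_mod, Nat.pow_mod]; simp
    obtain ⟨j, hj⟩ : ∃ j, 2 ^ (2 * m + 1) = 3 * j + 1 + 1 := ⟨2 ^ (2 * m + 1) / 3, by omega⟩
    rw [e, hj, Nat.add_sub_cancel] at h3
    simp only [Nat.prime_three.dvd_mul] at h3
    rcases h3 with (e | e) | e
    · have := Nat.prime_three.dvd_of_dvd_pow e
      omega
    · rw [show (3 * j + 1 + 1) ^ 2 + 1 = 3 * (3 * j ^ 2 + 4 * j + 1) + 2 by ring] at e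
      omega
    · omega
  · obtain ⟨r, _, n, hr, hn⟩ := FiniteField.card' K
    have := Fact.mk hr
    obtain ⟨a, ha⟩ := CF.Cls.exists_pow_of_card_sq r (Nat.card_eq_fintype_card.trans hq)
    obtain rfl : 2 = r := (Nat.prime_dvd_prime_iff_eq Nat.prime_two hr).1
      (Nat.prime_two.dvd_of_dvd_pow (ha ▸ ev.two_dvd))
    have c := card_psu3 hq
    rw [← Nat.card_congr e.toEquiv] at c
    have d : q ^ 3 ∣ Nat.card S := by
      rw [ha, ← pow_mul]
      refine S.pow_dvd_card_of_pow_dvd_card ?_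
      refine Nat.Coprime.dvd_of_dvd_mul_left (m := Nat.gcd 3 (q + 1)) (Nat.Coprime.pow_left _ ?_) ?_
      · rcases gcd3 (q + 1) with e | e <;> rw [e] <;> decide
      · rw [c, pow_mul, ← ha, mul_assoc]; exact dvd_mul_right _ _
    have l1 : q ^ 2 < q ^ 3 := Nat.pow_lt_pow_right (by omega) (by omega)
    have l2 : 4 ^ 2 ≤ q ^ 2 := Nat.pow_le_pow_left h4 2
    refine ⟨q ^ 3 + 1, fun e => ?_, fun n h1 h2 h3 =>
      uniq (m := q ^ 2 - 1) (by omega) (by omega) h1 (h2.of_dvd d) (c ▸ h3.mul_left _)⟩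
    obtain ⟨j, rfl⟩ : ∃ j, q = j + 1 := ⟨q - 1, by omega⟩
    have e2 : (j + 2) * (j ^ 2 + j + 1) = 3 * p := by rw [← e]; ring
    rcases hp.dvd_mul.1 (e2 ▸ dvd_mul_left p 3) with ⟨b, hb⟩ | ⟨b, hb⟩
    · have : b * (j ^ 2 + j + 1) = 3 := Nat.eq_of_mul_eq_mul_right hp.pos (by rw [← e2, hb]; ring)
      have := Nat.le_of_dvd three_pos (Dvd.intro_left b this)
      nlinarith
    · have : b * (j + 2) = 3 := Nat.eq_of_mul_eq_mul_right hp.pos (by rw [← e2, hb]; ring)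
      have := Nat.le_of_dvd three_pos (Dvd.intro_left b this)
      omega

end CF.Deg3p
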